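import Mathlib
import Cfsg.Agent.H93.ONHA.Data

/-!
A checked coset table (generated data).
-/

set_option autoImplicit false
set_option maxRecDepth 100000
set_option linter.all false
set_option Elab.async false

namespace H93
namespace ONHA

open Coset

noncomputable section

theorem edge0_0 : data.edgesFast 0 0 2793 = true := by decide +kernel

theorem edge0_1 : data.edgesFast 0 2793 2793 = true := by decide +kernel

theorem edge1_0 : data.edgesFast 1 0 2793 = true := by decide +kernel

theorem edge1_1 : data.edgesFast 1 2793 2793 = true := by decide +kernel

theorem edge2_0 : data.edgesFast 2 0 2793 = true := by decide +kernel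

theorem edge2_1 : data.edgesFast 2 2793 2793 = true := by decide +kernel

theorem edge3_0 : data.edgesFast 3 0 2793 = true := by decide +kernel

theorem edge3_1 : data.edgesFast 3 2793 2793 = true := by decide +kernel

theorem edge4_0 : data.edgesFast 4 0 2793 = true := by decide +kernel

theorem edge4_1 : data.edgesFast 4 2793 2793 = true := by decide +kernel

theorem edge5_0 : data.edgesFast 5 0 2793 = true := by decide +kernel

theorem edge5_1 : data.edgesFast 5 2793 2793 = true := by decide +kernel

theorem treeRow_0 : treeOK data 0 5586 = true := by decide +kernel

end

end ONHA
end H93
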